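import Cfsg.Agent.H634.Cols
import Cfsg.Agent.H593.IMRank
import Cfsg.Agent.Blocks.UniqueBlock
import Cfsg.Agent.H865.RhoEleven
import Cfsg.Agent.S1703

/-!
# `J₄`, `p = 11`: the principal block has at least eight characters (helper474)

The centralizer of an element `c` of class `11A` is `11^{1+2} : SL₂(3)`; it has only one `11`-block and seven classes of
`11`-regular elements.
-/

set_option autoImplicit false

namespace Cfsg.Agent.H474.KB.J4Rank

open Cfsg Subgroup Cfsg.Agent.H860.Count Cfsg.Agent.H865.HallClasses Cfsg.Agent.H859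

/-- at least `nc G (¬ p ∣ ·)` -/
theorem nc_le_blockRank {G : Type*} [Group G] [Finite G] (p : ℕ) :
    nc G (fun n => ¬ p ∣ n) ≤ blockRank p (Set.univ : Set (IrrCharacter G)) := by
  classical
  have := Fintype.ofFinite {c : ConjClasses G // ∃ g, ConjClasses.mk g = c ∧ ¬ p ∣ orderOf g}
  unfold nc
  rw [Nat.card_eq_fintype_card]
  refine Cfsg.Agent.H593.IMRank.card_le_blockRank p (fun c => c.2.choose) (fun c => c.2.choose_spec.2) ?_
  intro c d h
  have h1 := ConjClasses.mk_eq_mk_iff_isConj.2 h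
  rw [c.2.choose_spec.1, d.2.choose_spec.1] at h1
  exact Subtype.ext h1

theorem centralizer_le : centralizer ((NU.U.subgroupOf CentC.D : Subgroup CentC.D) : Set CentC.D) ≤
    NU.U.subgroupOf CentC.D := by
  intro x hx
  rw [mem_subgroupOf]
  refine CentC.centralizer_U_le ?_
  rw [mem_centralizer_iff] at hx ⊢
  intro u hu
  have h1 := hx ⟨u, CentC.U_le_D hu⟩ (mem_subgroupOf.2 hu)
  exact congrArg Subtype.val h1

theorem nc_D : nc CentC.D (fun n => ¬ 11 ∣ n) = 7 := by
  have : Fact (Nat.Prime 11) := ⟨by norm_num⟩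
  rw [← nc_congr (P := fun n => ¬ 11 ∣ n ∧ True) fun g => by rw [and_true]]
  rw [nc_quotient _ Cfsg.Agent.H865.RhoEleven.isPGroup_UD, ← nc_equiv Cfsg.Agent.H865.RhoEleven.equivQ]
  refine Eq.trans (nc_congr (Q := fun _ => True) fun s => ?_) (nc_true.trans Cfsg.Agent.H865.RhoEleven.card_conj)
  have h1 : orderOf s ∣ 24 := by
    rw [← Cfsg.Agent.H865.RhoEleven.card_SL]
    exact orderOf_dvd_natCard s
  have h2 : ∀ n ∈ Nat.divisors 24, (¬ 11 ∣ n ∧ True) ↔ True := by decide
  exact h2 _ (Nat.mem_divisors.2 ⟨h1, by norm_num⟩)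

variable {M : Ideal AlgInt}

/-- `l(B₀(C(11A))) ≥ 7` -/
theorem seven_le (hM : IsPModular 11 M) :
    7 ≤ blockRank 11 (principalBlock M ↥(centralizer ({NU.c} : Set Cfsg.Spor.J4))) := by
  have h1 : (principalBlock M ↥CentC.D : Set (IrrCharacter ↥CentC.D)) = Set.univ := by
    rw [Set.eq_univ_iff_forall]
    intro χ
    exact Cfsg.Agent.Blocks.UniqueBlock.sameBlock_of_centralizer_le hM (NU.U.subgroupOf CentC.D)
      Cfsg.Agent.H865.RhoEleven.isPGroup_UD centralizer_le ⟨fun _ => 1, Characters.Core.isIrr_one⟩ χ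
  show 7 ≤ blockRank 11 (principalBlock M ↥CentC.D)
  rw [h1, ← nc_D]
  exact nc_le_blockRank 11

/-- `k(B₀(J₄)) ≥ 8` for `p = 11` -/
theorem eight_le (hM : IsPModular 11 M) : 8 ≤ Nat.card (principalBlock M Cfsg.Spor.J4) := by
  have : Fact (Nat.Prime 11) := ⟨by norm_num⟩
  have : Finite Cfsg.Spor.J4 := Nat.finite_of_card_ne_zero (by rw [Cfsg.Agent.S1703.result.2]; norm_num)
  have h1 := Cfsg.Agent.H634.Cols.rank_add_rank_le hM (x := NU.c) ⟨1, by rw [ClassEleven.orderOf_c, pow_one]⟩ (by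
    intro h
    have h2 := ClassEleven.orderOf_c
    rw [h, orderOf_one] at h2
    norm_num at h2)
  have h2 := seven_le hM
  have h3 := Cfsg.Agent.H634.Cols.blockRank_pos (G := Cfsg.Spor.J4) hM
  omega

end Cfsg.Agent.H474.KB.J4Rank
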