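import Cfsg.Agent.H508.KB.Defs
import Cfsg.Agent.H474.KB.J4Rank
import Cfsg.Agent.H649.Transport
import Cfsg.Agent.KFacts.J4.SheetJ4
import Cfsg.Agent.KFacts.J4.Base

/-!
# S4822: the row of `J₄` (helper474)

`row_J4` : `Row 11 M S` for `S ≅ J₄`.
-/

set_option autoImplicit false

namespace Cfsg.Agent.H474.KB.RowJ4

open Cfsg Subgroup Cfsg.Agent.H508.KB
open scoped ComplexConjugate

universe u v

theorem kB_congr {M : Ideal AlgInt} {G : Type u} {H : Type v} [Group G] [Group H] (e : G ≃* H) :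
    kB M G = kB M H := by
  unfold kB
  rw [← Cfsg.Agent.H649.blkMap_principalBlock e]
  exact (Nat.card_image_of_injective (Cfsg.Agent.H649.irrMap_injective e) _).symm

/-- `C(κ + t - 1, t) ≥ κ` -/
theorem le_choose (κ : ℕ) {t : ℕ} (ht : 1 ≤ t) : κ ≤ (κ + t - 1).choose t := by
  rcases Nat.eq_zero_or_pos κ with rfl | hκ
  · exact Nat.zero_le _
  · obtain ⟨s, rfl⟩ : ∃ s, t = s + 1 := ⟨t - 1, by omega⟩
    induction s with
    | zero =>
      rw [show κ + (0 + 1) - 1 = κ by omega, zero_add, Nat.choose_one_right]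
    | succ s ih =>
      refine (ih (by omega)).trans ?_
      rw [show κ + (s + 1 + 1) - 1 = (κ + (s + 1) - 1) + 1 by omega, Nat.choose_succ_succ]
      exact Nat.le_add_right _ _

/-- `Good` when at most one character has the socle in its kernel -/
theorem goodN_of {p K f κ : ℕ} (h : 4 * (p - 1) ≤ K ^ 2) (hf : f ≤ 1) : GoodN p K f κ := by
  intro t g n ht hfg hn
  have h1 := le_choose κ ht
  have h2 : f ≤ g := by
    rcases Nat.eq_zero_or_pos g with rfl | hg
    · simpa using hfg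
    · omega
  have h3 : K ≤ n := by omega
  exact h.trans (Nat.pow_le_pow_left h3 2)

section

variable {A : Type u} [Group A] [Finite A]

/-- a constant irreducible character is trivial -/
theorem eq_one_of_const {χ : A → ℂ} (hχ : IsIrrCharacter A χ) (h : ∀ a : A, χ a = χ 1) : χ = 1 := by
  classical
  have := Fintype.ofFinite A
  by_contra hcon
  have h1 := Cfsg.Agent.Characters.Core.classInner_irr_ne hχ Cfsg.Agent.Characters.Core.isIrr_one hcon
  rw [Cfsg.Agent.Characters.Core.classInner_def] at h1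
  have h2 : ∑ a : A, χ a * (starRingEnd ℂ) ((1 : A → ℂ) a) = (Nat.card A : ℂ) * χ 1 := by
    rw [Finset.sum_congr rfl fun a _ => by rw [h a, Pi.one_apply, map_one, mul_one], Finset.sum_const,
      Finset.card_univ, nsmul_eq_mul, Nat.card_eq_fintype_card]
  rw [h2] at h1
  have h3 : (Nat.card A : ℂ) ≠ 0 := Cfsg.Agent.Characters.Core.card_ne_zero_complex
  rcases mul_eq_zero.1 h1 with h4 | h4
  · exact absurd (inv_eq_zero.1 h4) h3
  · rcases mul_eq_zero.1 h4 with h5 | h5
    · exact h3 h5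
    · exact Cfsg.Agent.Characters.Core.isIrr_apply_one_ne_zero hχ h5

theorem ker_le_one (M : Ideal AlgInt) {T : Subgroup A} [T.Normal] (hT : T = ⊤) : ker M T ≤ 1 := by
  unfold ker
  have : Subsingleton {χ : IrrCharacter A // χ ∈ principalBlock M A ∧ ∀ s ∈ T, (χ : A → ℂ) s = (χ : A → ℂ) 1} := by
    constructor
    rintro ⟨χ, -, hχ⟩ ⟨ψ, -, hψ⟩
    apply Subtype.ext
    apply Subtype.ext
    show (χ : A → ℂ) = (ψ : A → ℂ)
    rw [eq_one_of_const χ.2 fun a => hχ a (by rw [hT]; exact mem_top a),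
      eq_one_of_const ψ.2 fun a => hψ a (by rw [hT]; exact mem_top a)]
  exact Finite.card_le_one_iff_subsingleton.2 this

omit [Finite A] in
/-- all automorphisms of the socle are inner -/
theorem eq_top_of_inner {T : Subgroup A} [T.Normal] (hc : centralizer (T : Set A) = ⊥)
    (hin : ∀ α : MulAut ↥T, ∃ t : ↥T, α = MulAut.conj t) : T = ⊤ := by
  rw [eq_top_iff]
  intro a _
  obtain ⟨t, ht⟩ := hin (MulAut.conjNormal a)
  have h1 : (t : A)⁻¹ * a ∈ centralizer (T : Set A) := by
    rw [mem_centralizer_iff]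
    intro x hx
    have h2 := congrArg (fun α : MulAut ↥T => ((α ⟨x, hx⟩ : ↥T) : A)) ht
    simp only [MulAut.conjNormal_apply, MulAut.conj_apply, coe_mul, coe_inv] at h2
    calc x * ((t : A)⁻¹ * a) = (t : A)⁻¹ * (t * x * (t : A)⁻¹) * a := by group
      _ = (t : A)⁻¹ * (a * x * a⁻¹) * a := by rw [h2]
      _ = (t : A)⁻¹ * a * x := by group
  rw [hc, mem_bot] at h1
  rw [← inv_mul_eq_one.1 h1]
  exact t.2

end

/-- **S4822, W3** -/
theorem row_J4 {M : Ideal AlgInt} (S : Type u) [Group S] [Finite S] [IsSimpleGroup S] (hM : IsPModular 11 M)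
    (e : Spor.IsoJ4 S) : Row 11 M S := by
  intro A _ _ T _ ⟨f⟩ hc _
  obtain ⟨e⟩ := e
  have g : ↥T ≃* Spor.J4 := f.symm.trans e
  obtain ⟨hfin, hsim, ⟨F⟩⟩ := KFacts.J4.Base.exists_full ⟨g⟩
  have hT : T = ⊤ := eq_top_of_inner hc fun α => KFacts.J4.SheetJ4.inner F α
  refine goodN_of ?_ (ker_le_one M hT)
  have h1 : kB M A = kB M Spor.J4 := by
    refine (kB_congr ?_ : kB M A = kB M ↥T).trans (kB_congr g)
    exact (topEquiv.symm.trans (MulEquiv.subgroupCongr hT.symm))
  have h2 := J4Rank.eight_le hM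
  have h3 : 8 ≤ kB M A := by
    rw [h1]
    exact h2
  nlinarith

end Cfsg.Agent.H474.KB.RowJ4
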